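import Groth.Statements.S12115
import Groth.Agent.Par.K461.LeviRad

set_option autoImplicit false
open CategoryTheory MonoidalCategory CartesianMonoidalCategory MonObj GrpObj AlgebraicGeometry
universe u
open Par

namespace Groth.Agent.S12115

/-- Let S be a connected scheme and G a reductive S-group with a pinning D (maximal torus i : T ⟶ G
split by T ≅ D_S(M), root datum D.P with root homomorphisms D.u a, base D.base), and p : P ⟶ G a
parabolic subgroup to which the pinning is adapted: T ⊆ P and U_a ⊆ P for every root a that is a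
non-negative combination of simple roots. Let Δ(P) be the set of simple roots a with U_{-a} ⊆ P, N ⊆
M the saturation of the subgroup generated by the roots in Δ(P), and j : D_S(M/N) ⟶ G the subtorus
T_{Δ(P)} of T it defines (the maximal torus of the intersection of the kernels of the a ∈ Δ(P)).
Then for every Levi subgroup l : L ⟶ P containing T: (a) L is the centralizer of T_{Δ(P)} in G; (b)
T_{Δ(P)} is the radical of L: it factors through L and, for any centre ZL ⟶ L of L, through ZL as a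
maximal torus of ZL. (Here P is any parabolic subgroup adapted to the pinning and S is taken
connected, so that P has constant type; over a disconnected base Δ(P), computed over all of S, can
be smaller than the type of P on a component, and the conclusion fails.) -/
theorem result {S : Scheme.{u}} [ConnectedSpace S] {G P L : Over S}
    [GrpObj G] [GrpObj P] [GrpObj L] (D : Red.Pinning G) (p : P ⟶ G) (hP : Red.IsParabolic p)
    (hT : ∃ t : D.T ⟶ P, t ≫ p = D.i)
    (hpos : ∀ a : D.idx, D.P.root a ∈ AddSubmonoid.closure (D.P.root '' (D.base.support : Set D.idx)) →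
      ∃ v : Red.Ga S ⟶ P, v ≫ p = D.u a)
    (ΔP : Set D.idx)
    (hΔP : ∀ a : D.idx, a ∈ ΔP ↔ (a ∈ D.base.support ∧
      ∃ b : D.idx, D.P.root b = - D.P.root a ∧ ∃ v : Red.Ga S ⟶ P, v ≫ p = D.u b))
    (N : Submodule ℤ D.M)
    (hN : ∀ m : D.M, m ∈ N ↔ ∃ k : ℤ, k ≠ 0 ∧ k • m ∈ Submodule.span ℤ (D.P.root '' ΔP))
    (l : L ⟶ P) (hl : Par.IsLevi l) (hTL : ∃ t' : D.T ⟶ L, t' ≫ l ≫ p = D.i) :
    Red.IsCentralizerOf (Red.DSmap S N.mkQ.toAddMonoidHom ≫ D.split.inv.hom.hom ≫ D.i) (l ≫ p) ∧
    (∃ r₀ : Red.DS S (D.M ⧸ N) ⟶ L, r₀ ≫ l ≫ p = Red.DSmap S N.mkQ.toAddMonoidHom ≫ D.split.inv.hom.hom ≫ D.i) ∧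
    ∀ (ZL : Over S) [GrpObj ZL] (jz : ZL ⟶ L), Red.IsCentre jz →
      ∃ r : Red.DS S (D.M ⧸ N) ⟶ ZL, r ≫ jz ≫ l ≫ p = Red.DSmap S N.mkQ.toAddMonoidHom ≫ D.split.inv.hom.hom ≫ D.i ∧
        Red.IsMaximalTorus r := by
  obtain ⟨t, ht⟩ := hTL
  obtain ⟨h1, h2⟩ := K461.LeviRad.main D p hP hpos ΔP hΔP N hN l hl t ht
  exact ⟨h1, ⟨Red.DSmap S N.mkQ.toAddMonoidHom ≫ D.split.inv.hom.hom ≫ t, by simp only [Category.assoc, ht]⟩, h2⟩

end Groth.Agent.S12115
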