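import Groth.Statements.S8381
import Groth.Agent.Restated.S8381

set_option autoImplicit false
universe u
open CategoryTheory MonoidalCategory CartesianMonoidalCategory MonObj GrpObj AlgebraicGeometry
open SGA3t2b

namespace Groth.Agent.S8381

/-- Let G be a smooth affine algebraic group (smooth, affine and of finite type) over an infinite field
k, T a maximal torus of G, and L a Lie algebra over k modelling Lie(G)(k) (an identification
carrying sum, scalars and bracket to the group law, rescaling and bracket relation on dual-number
points). Then the Lie algebra of T contains a regular element of the Lie algebra of G: some element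
of Lie(T)(k) maps to an element of Lie(G)(k) whose counterpart in L is regular. (This row takes G
affine; without that hypothesis the statement fails for suitable non-affine groups in positive
characteristic, where a maximal torus can have central Lie algebra inside a non-nilpotent Lie(G).) -/
theorem result (k : Type u) [Field k] [Infinite k]
    (G : Over (Spec (CommRingCat.of k))) [GrpObj G] [Smooth G.hom] [QuasiCompact G.hom] [IsAffine G.left]
    (T : Over (Spec (CommRingCat.of k))) [GrpObj T] (i : T ⟶ G) [IsMonHom i] (hT : Red.IsMaximalTorus i)
    (L : Type u) [LieRing L] [LieAlgebra k L] [Module.Finite k L] (m : LieS.Model G k (Spec.map (CommRingCat.ofHom (algebraMap k k))) L) :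
    ∃ w : ↥(LieS.LieR T k),
      LieAlgebra.IsRegular k (Multiplicative.toAdd (m.e.symm (LieS.map k (Spec.map (CommRingCat.ofHom (algebraMap k k))) i w))) := by
  exact Groth.Agent.Restated.S8381.result k G T i hT L m

end Groth.Agent.S8381
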